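import Mathlib
import Groth.Agent.Lib.Helper5.HP.HP13
import Groth.Agent.Lib.Helper5.HP.HP6
import Groth.Agent.Lib.Lead.Misc3.MumB2
import Groth.Agent.Lib.Lead.PN.HilbPoly
import Groth.Agent.Lib.Lead.PN.AmpleDev
import Groth.Agent.Lib.Lead.PN.ClosedSubGG
import Groth.Agent.Lib.Helper5.VAmple.J

/-!
# `ℓ`-stable pure modules on a projective scheme are simple (helper5; S15002)
-/

set_option autoImplicit false
universe u
open CategoryTheory CategoryTheory.Limits AlgebraicGeometry Opposite TopologicalSpace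

namespace Groth.Agent.H5.EllSt

open Groth.Agent.LD Groth.Agent.LD.QC StabCat Groth.Agent.H5.HP Groth.Agent.LD.PN Twist Polynomial

/-- convexity of the lexicographic order. -/
lemma lex_convex {ℓ : ℕ} (u v w : Fin ℓ → ℚ) (a b : ℚ) (ha : 0 < a) (hb : 0 < b)
    (hw : ∀ j, (a + b) * w j = a * u j + b * v j) (hu : toLex u < toLex w)
    (hv : toLex v < toLex w) : False := by
  obtain ⟨i₁, h11, h12⟩ := hu
  obtain ⟨i₂, h21, h22⟩ := hv
  rcases lt_trichotomy i₁ i₂ with h | h | h
  · have e : v i₁ = w i₁ := h21 i₁ h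
    have h12' : u i₁ < w i₁ := h12
    have := hw i₁
    nlinarith [mul_pos ha (sub_pos.mpr h12')]
  · subst h
    have h12' : u i₁ < w i₁ := h12
    have h22' : v i₁ < w i₁ := h22
    have := hw i₁
    nlinarith [mul_pos ha (sub_pos.mpr h12'), mul_pos hb (sub_pos.mpr h22')]
  · have e : u i₂ = w i₂ := h11 i₂ h
    have h22' : v i₂ < w i₂ := h22
    have := hw i₂
    nlinarith [mul_pos hb (sub_pos.mpr h22')]

/-- the vector of normalised coefficients `(α_{d-1}/α_d, …, α_{d-ℓ}/α_d)`. -/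
noncomputable def vec (d ℓ : ℕ) (Q : ℚ[X]) : Fin ℓ → ℚ :=
  fun j : Fin ℓ => ((Q).coeff (d - 1 - (j : ℕ)) * (Nat.factorial (d - 1 - (j : ℕ)) : ℚ)) /
    ((Q).coeff d * (Nat.factorial d : ℚ))

variable (n : ℕ) (k : Type u) [Field k] {X : Scheme.{u}}
  (i : X ⟶ Proj (CohB1.polyGrading n k)) [IsClosedImmersion i]
  [X.Over (Spec (CommRingCat.of k))] [i.IsOver (Spec (CommRingCat.of k))]
  [IsProper (X ↘ Spec (CommRingCat.of k))]

/-- the Hilbert polynomial over the integers of a coherent module on a closed subscheme of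
projective space. -/
theorem exists_int_hilbPoly (F : X.Modules) (hF : Coh.IsCoh F) :
    ∃ Q : ℚ[X], ∀ m : ℤ, ((Curv2.euler k X (twOn n k i F m) : ℤ) : ℚ) = Q.eval (m : ℚ) := by
  obtain ⟨Q, hQ⟩ := exists_hilbert_polynomial_on n k i F hF
  refine ⟨Q, fun m => ?_⟩
  rw [← hQ m]
  have hcoh2 : Coh.IsCoh (twOn n k i F m) := isCoh_twOn n k i F hF m
  haveI := hF.1
  have hvan : ∀ p, n < p → Subsingleton (Coh.HH X (twOn n k i F m) p) := by
    intro p hp
    rw [subsingleton_HH_twOn_iff]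
    haveI : ((Scheme.Modules.pushforward i).obj F).IsQuasicoherent := qc_pushforward i _
    haveI := kG_qc n k ((Scheme.Modules.pushforward i).obj F) m
    exact subsingleton_HH_of_lt n k _ p hp
  rw [Curve.euler_eq_sum k X _ n hvan]
  push_cast
  refine Finset.sum_congr rfl (fun j _ => ?_)
  haveI := Curve.finite_HH k X _ hcoh2 j
  rw [Module.length_eq_finrank]
  rfl

omit [IsClosedImmersion i] [i.IsOver (Spec (CommRingCat.of k))] in
/-- an integer Hilbert polynomial is a Hilbert polynomial with respect to `i^* O(1)`. -/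
theorem isHilbPoly_of_int (F : X.Modules) (Q : ℚ[X])
    (hQ : ∀ m : ℤ, ((Curv2.euler k X (twOn n k i F m) : ℤ) : ℚ) = Q.eval (m : ℚ)) :
    ShStab.IsHilbPoly k X ((Scheme.Modules.pullback i).obj (twist (CohB1.polyGrading n k) 1))
      F Q := by
  intro l
  obtain ⟨e3⟩ := MumB.nonempty_twOn_iso_twist n k i _ (Iso.refl _) F l
  have h1 := hQ ((l : ℕ) : ℤ)
  rw [Int.cast_natCast] at h1
  rw [← h1, Curve.euler_iso k X e3]

/-- a Hilbert polynomial with respect to `i^* O(1)` is an integer Hilbert polynomial. -/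
theorem int_of_isHilbPoly (F : X.Modules) (hF : Coh.IsCoh F) (Q : ℚ[X])
    (hQ : ShStab.IsHilbPoly k X
      ((Scheme.Modules.pullback i).obj (twist (CohB1.polyGrading n k) 1)) F Q) (m : ℤ) :
    ((Curv2.euler k X (twOn n k i F m) : ℤ) : ℚ) = Q.eval (m : ℚ) := by
  obtain ⟨Q', hQ'⟩ := exists_int_hilbPoly n k i F hF
  have := isHilbPoly_unique k X _ F (isHilbPoly_of_int n k i F Q' hQ') hQ
  rw [← this]
  exact hQ' m

/-- **S15002**, in terms of `twOn`. -/
theorem endo_scalar_of_ellStable [IsAlgClosed k] (d ℓ : ℕ) (E : X.Modules) (hE : Coh.IsCoh E)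
    (P : ℚ[X]) (hP0 : P ≠ 0)
    (hP : ∀ m : ℤ, ((Curv2.euler k X (twOn n k i E m) : ℤ) : ℚ) = P.eval (m : ℚ))
    (hpure : ShStab.IsPure X E d)
    (hst : ∀ (F : X.Modules) (j : F ⟶ E), Mono j → Coh.IsCoh F → ∀ Q : ℚ[X],
      (∀ m : ℤ, ((Curv2.euler k X (twOn n k i F m) : ℤ) : ℚ) = Q.eval (m : ℚ)) →
        0 < Q.coeff d → Q.coeff d < P.coeff d → toLex (vec d ℓ Q) < toLex (vec d ℓ P))
    (φ : E ⟶ E) :
    ∃ c : k, φ = Ann.smulEnd E (Coh.toGlobal (X ↘ Spec (CommRingCat.of k)) c) := by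
  set L : X.Modules := (Scheme.Modules.pullback i).obj (twist (CohB1.polyGrading n k) 1) with hL
  have hA : CohB1.IsAmple L :=
    Groth.Agent.LD.PN.AmD.isAmple_pullback_of_isAffineHom i _ (Groth.Agent.H5.VAmple.isAmple_O1 n k)
  have hpE : ShStab.IsHilbPoly k X L E P := isHilbPoly_of_int n k i E P hP
  have hE0 : ¬ IsZero E := by
    intro hz
    exact hP0 (isHilbPoly_unique k X L _ hpE (isHilbPoly_of_isZero k X L hA.1 hz))
  have hfac : (0 : ℚ) < (d.factorial : ℚ) := by exact_mod_cast Nat.factorial_pos d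
  have coeff_pos : ∀ p : ℚ[X], 0 < alpha d p → 0 < p.coeff d := by
    intro p hp
    unfold alpha at hp
    by_contra hneg
    push Not at hneg
    have := mul_nonpos_of_nonneg_of_nonpos hfac.le hneg
    linarith
  have key : ∀ ψ : E ⟶ E, ψ ≠ 0 → IsIso ψ := by
    intro ψ hψ
    have hK := isCoh_kernel' k X (φ := ψ) hE hE
    have hI := isCoh_coimage k X (φ := ψ) hE hE
    obtain ⟨pK, hpK⟩ := exists_isHilbPoly k X L hA _ hK
    obtain ⟨pI, hpI⟩ := exists_isHilbPoly k X L hA _ hI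
    have hsum := hilbPoly_kerCoim k X L hA hE hE ψ hpE hpK hpI
    have hI0 := not_isZero_coimage ψ hψ
    haveI : Mono (Abelian.factorThruCoimage ψ) := inferInstance
    have hIpos := alpha_pos_of_isPure k X hA d hpure (Abelian.factorThruCoimage ψ) hI hI0 hpI
    by_cases hK0 : IsZero (kernel ψ)
    · haveI : Mono ψ := mono_of_isZero_kernel ψ hK0
      obtain ⟨pC, hpC, hsumC⟩ := exists_hilbPoly_cokernel k X hA hE hE ψ hpE hpE
      have hpC0 : pC = 0 := by
        have : P + pC = P + 0 := by rw [add_zero]; exact hsumC.symm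
        exact add_left_cancel this
      rw [hpC0] at hpC
      have hC0 : IsZero (cokernel ψ) :=
        isZero_of_isHilbPoly_zero k X L hA _ (isCoh_cokernel ψ hE hE) hpC
      haveI : Epi ψ := Preadditive.epi_of_isZero_cokernel ψ hC0
      exact isIso_of_mono_of_epi ψ
    · exfalso
      have hKpos := alpha_pos_of_isPure k X hA d hpure (kernel.ι ψ) hK hK0 hpK
      have hKc := coeff_pos pK hKpos
      have hIc := coeff_pos pI hIpos
      have hPc : P.coeff d = pK.coeff d + pI.coeff d := by rw [hsum, coeff_add]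
      have hu := hst (kernel ψ) (kernel.ι ψ) inferInstance hK pK
        (int_of_isHilbPoly n k i _ hK pK hpK) hKc (by linarith)
      have hv := hst (Abelian.coimage ψ) (Abelian.factorThruCoimage ψ) inferInstance hI pI
        (int_of_isHilbPoly n k i _ hI pI hpI) hIc (by linarith)
      refine lex_convex _ _ _ (pK.coeff d * (d.factorial : ℚ)) (pI.coeff d * (d.factorial : ℚ))
        (mul_pos hKc hfac) (mul_pos hIc hfac) (fun j => ?_) hu hv
      unfold vec
      have hPj : P.coeff (d - 1 - (j : ℕ)) = pK.coeff (d - 1 - (j : ℕ)) +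
          pI.coeff (d - 1 - (j : ℕ)) := by rw [hsum, coeff_add]
      rw [hPj, hPc]
      have h1 : pK.coeff d ≠ 0 := hKc.ne'
      have h2 : pI.coeff d ≠ 0 := hIc.ne'
      have h3 : pK.coeff d + pI.coeff d ≠ 0 := by positivity
      have h4 : (d.factorial : ℚ) ≠ 0 := hfac.ne'
      field_simp
  obtain ⟨x, hx, hnt⟩ := exists_closed_point_stalk k X E hE hE0
  haveI := hnt
  haveI : E.IsQuasicoherent := hE.1
  haveI : @Module.Finite (X.presheaf.stalk x) (E.presheaf.stalk x) _ _ (QC.stalkModule E x) :=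
    Groth.Agent.H1.CohLen.finite_stalk E hE.2 x
  obtain ⟨c, hc⟩ := Groth.Agent.H5.Eig.exists_not_isIso_sub_smul_of_finite
    (X ↘ Spec (CommRingCat.of k)) x hx E φ
  refine ⟨c, ?_⟩
  by_contra hne
  apply hc
  apply key
  intro h
  exact hne (sub_eq_zero.mp h)

end Groth.Agent.H5.EllSt
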